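import Groth.Agent.RelTildeLib.Period
import Groth.Agent.RelTildeLib.Locus
import Groth.Agent.AmpleLib.RelLocal

/-! Ampleness of `O(d)` on the (relative) `Proj` of an algebra of finite type. -/

set_option autoImplicit false
set_option linter.style.haveILetI false
set_option backward.isDefEq.respectTransparency false

universe u

open CategoryTheory CategoryTheory.Limits AlgebraicGeometry TopologicalSpace Opposite HomogeneousLocalization
open Groth.Agent.ParaFLib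
open scoped HomogeneousIdeal

noncomputable section

namespace Groth.Agent.RelAmpleTwistLib

variable {A σ : Type u} [CommRing A] [SetLike σ A] [AddSubgroupClass σ A] {𝒜 : ℕ → σ} [GradedRing 𝒜]

/-- Finitely many homogeneous elements of positive degree cover `Proj` of an algebra of finite type. -/
theorem exists_finite_cover {R : Type u} [CommRing R] (ρ : R →+* A) (hρ : ∀ r, ρ r ∈ 𝒜 0) (hft : ρ.FiniteType) :
    ∃ T : Finset (A × ℕ), (∀ t ∈ T, 0 < t.2 ∧ t.1 ∈ 𝒜 t.2) ∧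
      ∀ x : Proj 𝒜, ∃ t ∈ T, x ∈ Proj.basicOpen 𝒜 t.1 := by
  classical
  algebraize [ρ]
  obtain ⟨s, hs⟩ := Algebra.FiniteType.out (R := R) (A := A)
  refine ⟨s.biUnion fun a => ((DirectSum.decompose 𝒜 a).support.filter (0 < ·)).image
    fun i => ((DirectSum.decompose 𝒜 a i : A), i), fun t ht => ?_, fun x => ?_⟩
  · obtain ⟨a, -, ht⟩ := Finset.mem_biUnion.1 ht
    obtain ⟨i, hi, rfl⟩ := Finset.mem_image.1 ht
    exact ⟨(Finset.mem_filter.1 hi).2, SetLike.coe_mem _⟩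
  by_contra hne
  push Not at hne
  set P : Ideal A := x.asHomogeneousIdeal.toIdeal with hP
  have hz : ∀ a ∈ s, ∀ i, 0 < i → (DirectSum.decompose 𝒜 a i : A) ∈ P := fun a ha i hi => by
    by_cases hsup : i ∈ (DirectSum.decompose 𝒜 a).support
    · exact not_not.1 (hne _ (Finset.mem_biUnion.2 ⟨a, ha, Finset.mem_image.2
        ⟨i, Finset.mem_filter.2 ⟨hsup, hi⟩, rfl⟩⟩))
    · rw [DFinsupp.notMem_support_iff.1 hsup]
      exact P.zero_mem
  have key : ∀ a : A, Ideal.Quotient.mk P a = Ideal.Quotient.mk P (GradedRing.projZeroRingHom 𝒜 a) := by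
    intro a
    have ha : a ∈ Algebra.adjoin R (s : Set A) := hs ▸ Algebra.mem_top
    induction ha using Algebra.adjoin_induction with
    | mem a ha =>
      rw [Ideal.Quotient.eq]
      nth_rw 1 [← DirectSum.sum_support_decompose 𝒜 a]
      rw [← Finset.sum_filter_add_sum_filter_not _ (0 < ·), add_sub_assoc]
      refine add_mem (Ideal.sum_mem _ fun i hi => hz a ha i (Finset.mem_filter.1 hi).2) ?_
      by_cases h0 : 0 ∈ (DirectSum.decompose 𝒜 a).support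
      · rw [show ((DirectSum.decompose 𝒜 a).support.filter fun i => ¬ 0 < i) = {0} from
          Finset.ext fun i => by simp only [Finset.mem_filter, Finset.mem_singleton, Nat.not_lt, Nat.le_zero]
                                 exact ⟨fun h => h.2, fun h => ⟨h ▸ h0, h⟩⟩, Finset.sum_singleton]
        simp [GradedRing.projZeroRingHom]
      · rw [show ((DirectSum.decompose 𝒜 a).support.filter fun i => ¬ 0 < i) = ∅ from
          Finset.ext fun i => by simp only [Finset.mem_filter, Finset.notMem_empty, Nat.not_lt, Nat.le_zero, iff_false]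
                                 exact fun h => h0 (h.2 ▸ h.1), Finset.sum_empty]
        simp [GradedRing.projZeroRingHom, DFinsupp.notMem_support_iff.1 h0]
    | algebraMap r =>
      congr 1
      exact (DirectSum.decompose_of_mem_same 𝒜 (hρ r)).symm
    | add a b _ _ ha hb => simp only [map_add, ha, hb]
    | mul a b _ _ ha hb => simp only [map_mul, ha, hb]
  refine x.not_irrelevant_le fun a ha => ?_
  have h := key a
  have h0 : GradedRing.projZeroRingHom 𝒜 a = 0 := (HomogeneousIdeal.mem_irrelevant_iff 𝒜 a).1 ha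
  rw [h0, map_zero, Ideal.Quotient.eq_zero_iff_mem] at h
  exact h

theorem compactSpace_of_finset (T : Finset (A × ℕ)) (hT : ∀ t ∈ T, 0 < t.2 ∧ t.1 ∈ 𝒜 t.2)
    (hcov : ∀ x : Proj 𝒜, ∃ t ∈ T, x ∈ Proj.basicOpen 𝒜 t.1) : CompactSpace (Proj 𝒜) := by
  refine ⟨?_⟩
  have h : (Set.univ : Set (Proj 𝒜)) = ⋃ t ∈ T, (Proj.basicOpen 𝒜 t.1 : Set (Proj 𝒜)) :=
    Set.eq_univ_of_forall (fun x => by
      obtain ⟨t, ht, hx⟩ := hcov x
      exact Set.mem_iUnion₂.2 ⟨t, ht, hx⟩) |>.symm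
  rw [h]
  exact T.isCompact_biUnion fun t ht => (Proj.isAffineOpen_basicOpen 𝒜 t.1 (hT t ht).2 (hT t ht).1).isCompact

theorem exists_mem_of_dvd {T : Finset (A × ℕ)} (hT : ∀ t ∈ T, 0 < t.2 ∧ t.1 ∈ 𝒜 t.2)
    (hcov : ∀ x : Proj 𝒜, ∃ t ∈ T, x ∈ Proj.basicOpen 𝒜 t.1) {d : ℕ} (hd : 0 < d) (hdvd : ∀ t ∈ T, t.2 ∣ d)
    (x : Proj 𝒜) : ∃ g ∈ 𝒜 d, x ∈ Proj.basicOpen 𝒜 g := by
  obtain ⟨t, ht, hx⟩ := hcov x
  obtain ⟨q, hq⟩ := hdvd t ht
  refine ⟨t.1 ^ q, ?_, fun h => hx (x.isPrime.mem_of_pow_mem q h)⟩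
  rw [hq, mul_comm]
  simpa [smul_eq_mul] using SetLike.pow_mem_graded q (hT t ht).2

/-- `A(d)~` is ample when `Proj` is covered by loci of elements of degree `d > 0`. -/
theorem isAmple_tilde [CompactSpace (Proj 𝒜)] {d : ℕ} (hd : 0 < d)
    (hcov : ∀ x : Proj 𝒜, ∃ g ∈ 𝒜 d, x ∈ Proj.basicOpen 𝒜 g) :
    CohB1.IsAmple (GrMod.tilde 𝒜 𝒜 (d : ℤ)) := by
  let o : 𝒜 0 := ⟨1, SetLike.GradedOne.one_mem⟩
  have h1 : ∀ V : (Proj 𝒜).Opens, V ≤ Proj.basicOpen 𝒜 o.1 := fun V z _ h =>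
    z.isPrime.ne_top ((Ideal.eq_top_iff_one _).2 h)
  refine ⟨fun x => ?_, inferInstance, fun x => ?_⟩
  · obtain ⟨g, hg, hx⟩ := hcov x
    exact ⟨_, hx, nonempty_iso_of_gen
      (GrModLib.gen_frac (⟨g, hg⟩ : 𝒜 d) o (d : ℤ) (by simp) (h1 (Proj.basicOpen 𝒜 g)) le_rfl)⟩
  obtain ⟨g, hg, hx⟩ := hcov x
  let σ : Γ(GrMod.tilde 𝒜 𝒜 (d : ℤ), ⊤) := GrModLib.frac 𝒜 𝒜 (⟨g, hg⟩ : 𝒜 d) o (d : ℤ) (by simp) (h1 ⊤)
  refine ⟨0, DCohLib.secHom _ σ ≫ (AmpleLib.powOne _).inv, ?_⟩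
  rw [show (AmpleLib.powOne (GrMod.tilde 𝒜 𝒜 (d : ℤ))).inv =
      (AmpleLib.powOne (GrMod.tilde 𝒜 𝒜 (d : ℤ))).symm.hom from rfl]
  have heq : CohB1.genLocus _ (DCohLib.secHom _ σ) = Proj.basicOpen 𝒜 g := by
    refine le_antisymm (fun y hy => ?_) fun y hy => ?_
    · obtain ⟨h, hh, hyh⟩ := hcov y
      have he := GrModLib.gen_frac (⟨h, hh⟩ : 𝒜 d) o (d : ℤ) (by simp) (h1 (Proj.basicOpen 𝒜 h)) le_rfl
      let a : Γ(Proj 𝒜, Proj.basicOpen 𝒜 h) :=
        Proj.awayToSection 𝒜 h (Away.mk 𝒜 hh 1 g (by simpa using hg))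
      have hae : a • GrModLib.frac 𝒜 𝒜 (⟨h, hh⟩ : 𝒜 d) o (d : ℤ) (by simp) (h1 (Proj.basicOpen 𝒜 h)) =
          AmpleLib.resT (AmpleLib.sec (DCohLib.secHom _ σ)) (Proj.basicOpen 𝒜 h) := by
        rw [AmpleLib.sec_secHom, AmpleLib.resT]
        refine GrModLib.sect_ext fun z => ?_
        rw [GrModLib.valAt_smul, GrModLib.valAt_res, GrModLib.valAt_frac, GrModLib.valAt_frac]
        show (((Proj.awayToSection 𝒜 h (Away.mk 𝒜 hh 1 g (by simpa using hg)) :
          GrTwist.O (𝒜 := 𝒜) (op (Proj.basicOpen 𝒜 h))).1 z).val • _ : GrMod.LocMod 𝒜 (M := A) z.1) = _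
        rw [GrModLib.val_awayToSection, LocalizedModule.mk_smul_mk, LocalizedModule.mk_eq]
        refine ⟨1, ?_⟩
        simp only [one_smul, Submonoid.smul_def, smul_eq_mul, o, Submonoid.coe_mul, pow_one, mul_one, one_mul]
        ring
      have h2 := (AmpleLib.genLocus_inf_eq_basicOpen _ he hae).le ⟨hy, hyh⟩
      rw [show (Proj 𝒜).basicOpen a = Proj.basicOpen 𝒜 (h * g) from GrModLib.basicOpen_awayToSection hh 1 g _,
        Proj.basicOpen_mul] at h2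
      exact h2.2
    · refine AmpleLib.mem_genLocus_iff'.2 ⟨Proj.basicOpen 𝒜 g, hy, ?_⟩
      rw [AmpleLib.sec_secHom, AmpleLib.resT, GrModLib.frac_res]
      exact GrModLib.gen_frac _ _ _ _ _ le_rfl
  rw [AmpleLib.genLocus_comp_iso, heq]
  exact ⟨hx, Proj.isAffineOpen_basicOpen 𝒜 g hg hd⟩

variable {Y P : Scheme.{u}} {𝒮 : RelProj.QCGrAlg Y} {p : P ⟶ Y}
  {chart : ∀ (U : Y.Opens) (hU : IsAffineOpen U), (((p ⁻¹ᵁ U : P.Opens) : Scheme.{u}) ≅ Proj (𝒮.deg U hU))}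

/-- `O(d)` is invertible and relatively ample for a suitable `d > 0`. -/
theorem exists_period [CompactSpace Y]
    (hft : ∀ (U : Y.Opens) (_ : IsAffineOpen U), (𝒮.str.app (op U)).hom.FiniteType) :
    ∃ d : ℕ, 0 < d ∧ ∀ (L : P.Modules)
      (lam : ∀ (U : Y.Opens) (hU : IsAffineOpen U),
        L ⟶ (Scheme.Modules.pushforward (RelProj.emb p chart U hU)).obj (GrTwist.twist (𝒮.deg U hU) (d : ℤ))),
      RelProj.IsRelTwist 𝒮 p chart (d : ℤ) L lam → PicF.IsInvertible L ∧ RelAmple.IsRelAmple p L := by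
  classical
  have hfc : ∀ (U : Y.Opens) (hU : IsAffineOpen U), ∃ T : Finset (𝒮.presheaf.obj (op U) × ℕ),
      (∀ t ∈ T, 0 < t.2 ∧ t.1 ∈ 𝒮.deg U hU t.2) ∧
        ∀ x : Proj (𝒮.deg U hU), ∃ t ∈ T, x ∈ Proj.basicOpen (𝒮.deg U hU) t.1 :=
    fun U hU => exists_finite_cover (𝒮.str.app (op U)).hom (𝒮.str_mem U hU) (hft U hU)
  choose T hT hTcov using hfc
  have hcs : ∀ (U : Y.Opens) (hU : IsAffineOpen U), CompactSpace (Proj (𝒮.deg U hU)) := fun U hU =>
    compactSpace_of_finset _ (hT U hU) (hTcov U hU)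
  have hrange : ∀ (U : Y.Opens) (hU : IsAffineOpen U), IsCompact ((p ⁻¹ᵁ U : P.Opens) : Set P) := fun U hU => by
    haveI := hcs U hU
    rw [← RelTildeLib.opensRange_emb (chart := chart) U hU]
    exact isCompact_range (RelProj.emb p chart U hU).continuous
  haveI : QuasiCompact p := quasiCompact_iff_forall_isAffineOpen.2 fun U hU => hrange U hU
  choose W hW hyW using fun y : Y => show ∃ W : Y.Opens, IsAffineOpen W ∧ y ∈ W from by
    obtain ⟨_, ⟨W, hW, rfl⟩, hy, -⟩ :=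
      Y.isBasis_affineOpens.exists_subset_of_mem_open (Set.mem_univ y) isOpen_univ
    exact ⟨W, hW, hy⟩
  obtain ⟨t, ht⟩ := (isCompact_univ (X := Y)).elim_finite_subcover (fun y => (W y : Set Y)) (fun y => (W y).isOpen)
    fun y _ => Set.mem_iUnion.2 ⟨y, hyW y⟩
  refine ⟨∏ y ∈ t, ∏ k ∈ T (W y) (hW y), k.2,
    Finset.prod_pos fun y _ => Finset.prod_pos fun k hk => (hT _ _ k hk).1, fun L lam hL => ?_⟩
  have hd : 0 < ∏ y ∈ t, ∏ k ∈ T (W y) (hW y), k.2 :=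
    Finset.prod_pos fun y _ => Finset.prod_pos fun k hk => (hT _ _ k hk).1
  have hamp : RelAmple.IsRelAmple p L := AmpleLib.isRelAmple_of_locally fun y => by
    obtain ⟨z, hz, hyz⟩ := Set.mem_iUnion₂.1 (ht (Set.mem_univ y))
    refine ⟨W z, hW z, hyz, ?_⟩
    haveI := hcs (W z) (hW z)
    have h1 := isAmple_tilde hd (exists_mem_of_dvd (hT _ (hW z)) (hTcov _ (hW z)) hd fun k hk =>
      (Finset.dvd_prod_of_mem (fun k => k.2) hk).trans
        (Finset.dvd_prod_of_mem (fun y => ∏ k ∈ T (W y) (hW y), k.2) hz))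
    have h2 := AmpleLib.isAmple_of_iso (GrModLib.twistIso _ _).symm h1
    have h3 := AmpleLib.isAmple_of_iso
      (RelTildeLib.adjIso (j := RelProj.emb p chart (W z) (hW z)) (lam := lam (W z) (hW z))
        (RelTildeLib.bij_range hL.bijective (W z) (hW z))).symm h2
    rw [← RelTildeLib.opensRange_emb (chart := chart) (W z) (hW z)]
    exact (AmpleLib.ampleOn_iff_of_range _).1 h3
  refine ⟨isInvertible_of_locally fun x => ?_, hamp⟩
  obtain ⟨_, ⟨U, hU, rfl⟩, hxU, -⟩ :=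
    Y.isBasis_affineOpens.exists_subset_of_mem_open (Set.mem_univ (p x)) isOpen_univ
  exact ⟨p ⁻¹ᵁ U, hxU, (hamp.2 ⟨U, hU⟩).1⟩

end Groth.Agent.RelAmpleTwistLib
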